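import Cfsg.Agent.H0.QCo2.D
set_option maxRecDepth 100000
set_option Elab.async false
set_option linter.unusedSectionVars false
namespace H0.QCo2
open H0 BN 
theorem defs_ok : DefsOK R.p defs 18 := defsOK_of_chk c27
universe u
variable {G : Type u} [Group G] [Finite G] (m0 : Model G) (h0 : m0.R = H6M.MCo2.R)
noncomputable def m : Model G := m0.ext (lg := nat_lit 12) (N := nat_lit 4096) (l := H6M.MCo2.nl) h0 nl nl_ok 18 rfl defs defs_ok (by decide +kernel)
theorem mR : (m m0 h0).R = R := rfl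
variable (hb : m0.pst [1625, 1409, 570, 569, 1, 0] = ⊥) (hc : Nat.card G = 42305421312000)
include h0 hb hc
theorem base : (m m0 h0).pst [1625, 1409, 570, 569, 1, 0] = ⊥ := hb
omit hb hc in
theorem ch2_ok : (m m0 h0).ChainOK ch2 [] := ((m m0 h0).chain_cons [0, 1, 2, 3, 4, 5, 6, 8, 7, 10, 9] (Model.via _ (mR m0 h0) (fun R => Model.fixP R [] [[18], [19], [21], [22], [23], [24], [30], [31], [32], [34], [35]]) c4) (Model.via _ (mR m0 h0) (fun R => Model.growP R [[18], [19], [21], [22], [23], [24], [30], [31], [32], [34], [35]] [0, 1, 2, 3, 4, 5, 6, 8, 7, 10, 9] 0 1024) c5) ((m m0 h0).chain_cons [0, 1, 2, 3, 4, 6, 5, 0] (Model.via _ (mR m0 h0) (fun R => Model.fixP R [0] [[18, 21, 25, 28, 30, 31, 32], [19, 24, 25, 30, 31, 35], [20, 24, 28, 30, 33, 34], [22, 24, 25, 33, 34, 35], [23, 24, 25, 28, 31, 32, 33, 35], [26, 31, 33, 34], [27, 28, 30, 31, 34]]) c2) (Model.via _ (mR m0 h0) (fun R => Model.growP R [[18, 21, 25, 28, 30, 31, 32], [19,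 24, 25, 30, 31, 35], [20, 24, 28, 30, 33, 34], [22, 24, 25, 33, 34, 35], [23, 24, 25, 28, 31, 32, 33, 35], [26, 31, 33, 34], [27, 28, 30, 31, 34]] [0, 1, 2, 3, 4, 6, 5, 0] 1 128) c3) ((m m0 h0).chain_cons [0] (Model.via _ (mR m0 h0) (fun R => Model.fixP R [1, 0] [[18, 19, 20, 21, 25, 27, 32, 34, 35]]) c0) (Model.via _ (mR m0 h0) (fun R => Model.growP R [[18, 19, 20, 21, 25, 27, 32, 34, 35]] [0] 2 2) c1) ((m m0 h0).chain_nil _))))
theorem pb2 : PBound G (2 ^ (0 + 1)) :=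
  (m m0 h0).pbound C2 18 (k := 161382375) (K := 2) (e := 1) hc (lt_step_all (a := 0) (k := 238) (lt_zero_all _) ((m m0 h0).rules_of (base m0 h0 hb hc) (Model.via _ (mR m0 h0) (fun R => rulesB R [1625, 1409, 570, 569, 1, 0] (fun i => sh 18 (C2.L i)) (fun i => sh 18 (C2.R i)) 0 238) c6))) (ch2_ok m0 h0) (by decide +kernel) tests2 (all_take_done (all_take_step (all_take_step (all_take_zero _ tests2) (allL_spec c7)) (allL_spec c8)) (by decide +kernel))
    av2 FS2 YS2 rows2 (all_take_done (all_take_step (all_take_step (all_take_step (all_take_zero _ rows2) (allL_spec c9)) (allL_spec c10)) (allL_spec c11)) (by decide +kernel)) c12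
omit hb hc in
theorem ch3_ok : (m m0 h0).ChainOK ch3 [] := ((m m0 h0).chain_cons [0, 1, 2, 3, 4, 5, 0, 1, 3, 2, 0] (Model.via _ (mR m0 h0) (fun R => Model.fixP R [] [[40], [41], [42], [43], [44], [45]]) c15) (Model.via _ (mR m0 h0) (fun R => Model.growP R [[40], [41], [42], [43], [44], [45]] [0, 1, 2, 3, 4, 5, 0, 1, 3, 2, 0] 2 243) c16) ((m m0 h0).chain_cons [0, 0] (Model.via _ (mR m0 h0) (fun R => Model.fixP R [2] [[41, 42, 44, 45]]) c13) (Model.via _ (mR m0 h0) (fun R => Model.growP R [[41, 42, 44, 45]] [0, 0] 3 3) c14) ((m m0 h0).chain_nil _)))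
theorem pb3 : PBound G (3 ^ (0 + 1)) :=
  (m m0 h0).pbound C3 40 (k := 58032128000) (K := 2) (e := 1) hc (lt_step_all (a := 0) (k := 39) (lt_zero_all _) ((m m0 h0).rules_of (base m0 h0 hb hc) (Model.via _ (mR m0 h0) (fun R => rulesB R [1625, 1409, 570, 569, 1, 0] (fun i => sh 40 (C3.L i)) (fun i => sh 40 (C3.R i)) 0 39) c17))) (ch3_ok m0 h0) (by decide +kernel) tests3 (all_take_done (all_take_step (all_take_zero _ tests3) (allL_spec c18)) (by decide +kernel))
    av3 FS3 YS3 rows3 (all_take_done (all_take_step (all_take_zero _ rows3) (allL_spec c19)) (by decide +kernel)) c20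
omit hb hc in
theorem ch5_ok : (m m0 h0).ChainOK ch5 [] := ((m m0 h0).chain_cons [0, 1, 2, 0, 1, 0, 1, 0, 1, 1, 0, 0, 0] (Model.via _ (mR m0 h0) (fun R => Model.fixP R [] [[49], [50], [51]]) c21) (Model.via _ (mR m0 h0) (fun R => Model.growP R [[49], [50], [51]] [0, 1, 2, 0, 1, 0, 1, 0, 1, 1, 0, 0, 0] 0 125) c22) ((m m0 h0).chain_nil _))
theorem pb5 : PBound G (5 ^ (0 + 1)) :=
  (m m0 h0).pbound C5 49 (k := 338443370496) (K := 2) (e := 1) hc (lt_step_all (a := 0) (k := 9) (lt_zero_all _) ((m m0 h0).rules_of (base m0 h0 hb hc) (Model.via _ (mR m0 h0) (fun R => rulesB R [1625, 1409, 570, 569, 1, 0] (fun i => sh 49 (C5.L i)) (fun i => sh 49 (C5.R i)) 0 9) c23))) (ch5_ok m0 h0) (by decide +kernel) tests5 (all_take_done (all_take_step (all_take_zero _ tests5) (allL_spec c24)) (by decide +kernel))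
    av5 FS5 YS5 rows5 (all_take_done (all_take_step (all_take_zero _ rows5) (allL_spec c25)) (by decide +kernel)) c26
theorem bound (Γ : Type u) [Group Γ] [Finite Γ] (σ : Γ →* G) (hσ : Cfsg.IsStemExtension σ) : Nat.card σ.ker ∣ 1 :=
  card_ker_dvd (M := 23) (k := 18) (L := [2, 3, 5]) hc (by decide +kernel) (ex_bound (pb2 m0 h0 hb hc) (by decide) (ex_bound (pb3 m0 h0 hb hc) (by decide) (ex_bound (pb5 m0 h0 hb hc) (by decide) ex_bound_nil))) Γ σ hσ
end H0.QCo2
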